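import Groth.Agent.Lib.GrpSch.Translate
import Groth.Agent.Lib.GrpSch.SmoothReduced
import Groth.Agent.Lib.GeomConn.SepClosed
import Mathlib.AlgebraicGeometry.Morphisms.Integral
import Mathlib.AlgebraicGeometry.Properties

/-!
# A connected group scheme of finite type over a field is irreducible
-/

universe u

open CategoryTheory Limits MonoidalCategory CartesianMonoidalCategory MonObj AlgebraicGeometry

namespace Groth.Agent.H1.GrpIrred

open Groth.Agent.Lib.GrpSch

variable {k : Type u} [Field k] (G : Over (Spec (CommRingCat.of k))) [GrpObj G]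

/-- A connected group scheme over a field stays connected over an algebraic extension. -/
theorem connectedSpace_bc [ConnectedSpace G.left] (K : Type u) [Field K] [Algebra k K]
    [Algebra.IsAlgebraic k K] : ConnectedSpace (Red.bc (extBase k K) G).left := by
  let p := bcProj (extBase k K) G
  have hi : IsIntegralHom (extBase k K) := by
    rw [extBase, IsIntegralHom.SpecMap_iff]
    exact algebraMap_isIntegral_iff.mpr (Algebra.IsAlgebraic.isIntegral)
  have : IsIntegralHom p := bcProj_of (P := @IsIntegralHom) (extBase k K) G hi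
  have : UniversallyOpen p := bcProj_of (P := @UniversallyOpen) (extBase k K) G inferInstance
  have hclosed : IsClosedMap p := p.isClosedMap
  have hopen : IsOpenMap p := p.isOpenMap
  let e := (Over.pullback (extBase k K)).map η[G]
  have hsq := isPullback_bc_map (extBase k K) η[G]
  have hrange : Set.range e.left = p ⁻¹' Set.range η[G].left := by
    rw [← Scheme.Pullback.range_fst (f := p) (g := η[G].left), ← hsq.isoPullback_hom_fst,
      Scheme.Hom.comp_base]
    exact Function.Surjective.range_comp hsq.isoPullback.hom.surjective _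
  have hsub : (p ⁻¹' Set.range η[G].left).Subsingleton := by
    rw [← hrange]
    rintro _ ⟨a, rfl⟩ _ ⟨b, rfl⟩
    have : Subsingleton ((Over.pullback (extBase k K)).obj (𝟙_ (Over (Spec (CommRingCat.of k))))).left := by
      have hiso : IsIso ((Over.pullback (extBase k K)).obj (𝟙_ (Over (Spec (CommRingCat.of k))))).hom :=
        bc_hom_of (P := MorphismProperty.isomorphisms Scheme.{u}) (extBase k K) _
          (by show IsIso (𝟙 _); infer_instance)
      exact ((Over.pullback (extBase k K)).obj (𝟙_ (Over (Spec (CommRingCat.of k))))).hom.homeomorph.injective.subsingleton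
    rw [Subsingleton.elim a b]
  obtain ⟨x0⟩ : Nonempty ↥(𝟙_ (Over (Spec (CommRingCat.of k)))).left :=
    ⟨(IsLocalRing.closedPoint k : ↥(Spec (CommRingCat.of k)))⟩
  have key : ∀ C : Set (Red.bc (extBase k K) G).left, IsClopen C → C.Nonempty →
      ∃ y ∈ C, y ∈ p ⁻¹' Set.range η[G].left := by
    intro C hC hne
    have himg : p '' C = Set.univ :=
      IsClopen.eq_univ ⟨hclosed _ hC.1, hopen _ hC.2⟩ (hne.image _)
    obtain ⟨y, hy, hy'⟩ : η[G].left x0 ∈ p '' C := himg ▸ Set.mem_univ _
    exact ⟨y, hy, x0, hy'.symm⟩
  rw [connectedSpace_iff_clopen]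
  refine ⟨?_, fun C hC => ?_⟩
  · obtain ⟨y, hy⟩ := (bcProj_surjective_flat_qc k K G).1.1.surj (η[G].left x0)
    exact ⟨y⟩
  · by_contra h
    push Not at h
    obtain ⟨y, hy, hy'⟩ := key C hC h.1
    obtain ⟨z, hz, hz'⟩ := key Cᶜ hC.compl (Set.nonempty_compl.mpr h.2)
    exact hz (hsub hy' hz' ▸ hy)

/-- A connected group scheme locally of finite type and quasi-compact over an algebraically closed field
is irreducible. -/
theorem irreducibleSpace_of_isAlgClosed [IsAlgClosed k] [ConnectedSpace G.left] [LocallyOfFiniteType G.hom]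
    [QuasiCompact G.hom] : IrreducibleSpace G.left := by
  classical
  have : IsLocallyNoetherian G.left := LocallyOfFiniteType.isLocallyNoetherian G.hom
  have : CompactSpace G.left := QuasiCompact.compactSpace_of_compactSpace G.hom
  have : IsNoetherian G.left := { }
  have : JacobsonSpace G.left := LocallyOfFiniteType.jacobsonSpace G.hom
  have hfin : (irreducibleComponents G.left).Finite :=
    TopologicalSpace.NoetherianSpace.finite_irreducibleComponents
  let others : G.left → Set (Set G.left) := fun x => {Z | Z ∈ irreducibleComponents G.left ∧ x ∉ Z}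
  -- a closed point lying in exactly one component
  obtain ⟨Z₀, hZ₀⟩ : (irreducibleComponents G.left).Nonempty :=
    ⟨_, irreducibleComponent_mem_irreducibleComponents (Classical.arbitrary G.left)⟩
  obtain ⟨U, hU, hUne, hUsub⟩ : ∃ U : Set G.left, IsOpen U ∧ U.Nonempty ∧
      ∀ x ∈ U, ∀ Z ∈ irreducibleComponents G.left, x ∈ Z → Z = Z₀ := by
    refine ⟨(⋃₀ (irreducibleComponents G.left \ {Z₀}))ᶜ, ?_, ?_, ?_⟩
    · rw [Set.sUnion_eq_biUnion]
      exact ((hfin.sdiff).isClosed_biUnion fun Z hZ => isClosed_of_mem_irreducibleComponents Z hZ.1).isOpen_compl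
    · rw [Set.nonempty_compl]
      intro h
      obtain ⟨Z, hZ, hle⟩ := (isIrreducible_iff_sUnion_isClosed.mp hZ₀.1) (hfin.sdiff (t := {Z₀})).toFinset
        (fun Z hZ => isClosed_of_mem_irreducibleComponents Z ((Set.Finite.mem_toFinset _).mp hZ).1)
        (by rw [Set.Finite.coe_toFinset, h]; exact Set.subset_univ _)
      rw [Set.Finite.mem_toFinset] at hZ
      exact hZ.2 (Set.eq_of_subset_of_subset (hZ₀.2 hZ.1.1 hle) hle)
    · intro x hx Z hZ hxZ
      by_contra hne
      exact hx ⟨Z, ⟨hZ, hne⟩, hxZ⟩
  obtain ⟨v, hv, hvc⟩ := nonempty_inter_closedPoints hUne hU.isLocallyClosed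
  let pv : 𝟙_ (Over (Spec (CommRingCat.of k))) ⟶ G :=
    Over.homMk (pointOfClosedPoint G.hom v hvc) (pointOfClosedPoint_comp G.hom v hvc)
  -- hence every closed point lies in exactly one component
  have huniq : ∀ c ∈ closedPoints G.left, ∀ Z ∈ irreducibleComponents G.left, ∀ Z' ∈ irreducibleComponents G.left,
      c ∈ Z → c ∈ Z' → Z = Z' := by
    intro c hc Z hZ Z' hZ' hcZ hcZ'
    let pc : 𝟙_ (Over (Spec (CommRingCat.of k))) ⟶ G :=
      Over.homMk (pointOfClosedPoint G.hom c hc) (pointOfClosedPoint_comp G.hom c hc)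
    let τ : G.left ≅ G.left := (Over.forget _).mapIso (translate (regularAction G) (pv * pc⁻¹))
    let h := τ.hom.homeomorph
    obtain ⟨s⟩ : Nonempty ↥(Spec (CommRingCat.of k)) := inferInstance
    have hcv : τ.hom c = v := by
      have e1 : pc.left s = c := pointOfClosedPoint_apply G.hom c hc s
      have e2 : pv.left s = v := pointOfClosedPoint_apply G.hom v hvc s
      have e3 : pc ≫ (translate (regularAction G) (pv * pc⁻¹)).hom = pv := by
        rw [translate_regular_apply, inv_mul_cancel_right]
      rw [← e1, ← e2, ← Scheme.Hom.comp_apply]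
      exact congrArg (fun φ : 𝟙_ (Over (Spec (CommRingCat.of k))) ⟶ G => φ.left s) e3
    have himg : ∀ W ∈ irreducibleComponents G.left, τ.hom '' W ∈ irreducibleComponents G.left := by
      intro W hW
      refine ⟨hW.1.image _ h.continuous.continuousOn, fun T hT hle => ?_⟩
      have h1 : W ⊆ τ.hom ⁻¹' T := Set.image_subset_iff.mp hle
      have h2 : IsIrreducible (τ.hom ⁻¹' T) := by
        have := hT.image h.symm h.symm.continuous.continuousOn
        rwa [Homeomorph.image_symm] at this
      have := hW.2 h2 h1
      intro t ht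
      obtain ⟨t', rfl⟩ := h.surjective t
      exact ⟨t', this ht, rfl⟩
    have := (hUsub v hv _ (himg Z hZ) ⟨c, hcZ, hcv⟩).trans (hUsub v hv _ (himg Z' hZ') ⟨c, hcZ', hcv⟩).symm
    exact h.injective.image_injective this
  -- so the components are disjoint, hence clopen
  have hclopen : IsClopen Z₀ := by
    refine ⟨isClosed_of_mem_irreducibleComponents Z₀ hZ₀, ?_⟩
    have : Z₀ = (⋃₀ (irreducibleComponents G.left \ {Z₀}))ᶜ := by
      ext x
      constructor
      · rintro hx ⟨Z, ⟨hZ, hne⟩, hxZ⟩
        obtain ⟨c, hcm, hc⟩ := nonempty_inter_closedPoints (X := G.left) (Z := Z₀ ∩ Z) ⟨x, hx, hxZ⟩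
          ((isClosed_of_mem_irreducibleComponents Z₀ hZ₀).inter
            (isClosed_of_mem_irreducibleComponents Z hZ)).isLocallyClosed
        exact hne (huniq c hc Z hZ Z₀ hZ₀ hcm.2 hcm.1)
      · intro hx
        have hmem := irreducibleComponent_mem_irreducibleComponents x
        by_cases he : irreducibleComponent x = Z₀
        · exact he ▸ mem_irreducibleComponent
        · exact absurd ⟨_, ⟨hmem, he⟩, mem_irreducibleComponent⟩ hx
    rw [this, Set.sUnion_eq_biUnion]
    exact ((hfin.sdiff).isClosed_biUnion fun Z hZ => isClosed_of_mem_irreducibleComponents Z hZ.1).isOpen_compl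
  have huniv : Z₀ = Set.univ := IsClopen.eq_univ hclopen hZ₀.1.nonempty
  rw [irreducibleSpace_def, Set.top_eq_univ, ← huniv]
  exact hZ₀.1

/-- A connected group scheme of finite type over a field is irreducible. -/
theorem irreducibleSpace [ConnectedSpace G.left] [LocallyOfFiniteType G.hom] [QuasiCompact G.hom] :
    IrreducibleSpace G.left := by
  let K := AlgebraicClosure k
  have := connectedSpace_bc G K
  have : LocallyOfFiniteType (Red.bc (extBase k K) G).hom := bc_hom_of _ G inferInstance
  have : QuasiCompact (Red.bc (extBase k K) G).hom := bc_hom_of _ G inferInstance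
  have hK := irreducibleSpace_of_isAlgClosed (Red.bc (extBase k K) G)
  let p := bcProj (extBase k K) G
  have hsurj : Function.Surjective p := (bcProj_surjective_flat_qc k K G).1.1.surj
  rw [irreducibleSpace_def, Set.top_eq_univ, ← Set.range_eq_univ.mpr hsurj, ← Set.image_univ]
  exact ((irreducibleSpace_def _).mp hK).image p p.continuous.continuousOn

/-- A connected smooth affine group over a field is integral. -/
theorem isIntegral [ConnectedSpace G.left] [Smooth G.hom] [QuasiCompact G.hom] : IsIntegral G.left := by
  have := irreducibleSpace G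
  have := isReduced_of_smooth_field G.hom
  exact isIntegral_of_irreducibleSpace_of_isReduced _

end Groth.Agent.H1.GrpIrred
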