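import Groth.Agent.H1.Lang
import Mathlib.AlgebraicGeometry.ResidueField
import Mathlib.FieldTheory.Finite.Basic
import Mathlib.FieldTheory.IsAlgClosed.AlgebraicClosure

/-!
# Torsors under connected groups over finite fields are trivial
-/

universe u

open CategoryTheory Limits MonoidalCategory CartesianMonoidalCategory MonObj GrpObj AlgebraicGeometry

namespace Groth.Agent.H1.LangTorsor

open Groth.Agent.Lib.GrpSch

theorem appTop_specMap_pow {R : Type u} [CommRing R] (f : R →+* R) (q : ℕ) (hf : ∀ a, f a = a ^ q)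
    (t : Γ(Spec (CommRingCat.of R), ⊤)) : (Spec.map (CommRingCat.ofHom f)).appTop t = t ^ q := by
  let σ := Scheme.ΓSpecIso (CommRingCat.of R)
  apply σ.commRingCatIsoToRingEquiv.injective
  have nat := congrArg (fun g => g.hom t) (Scheme.ΓSpecIso_naturality (CommRingCat.ofHom f))
  simp only [CommRingCat.hom_comp, RingHom.comp_apply, CommRingCat.hom_ofHom] at nat
  refine Eq.trans ?_ (_root_.map_pow σ.commRingCatIsoToRingEquiv t q).symm
  exact nat.trans (hf _)

variable {k : Type u} [Field k]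

/-- The `q`-th power endomorphism of an affine scheme over a finite field. -/
theorem exists_frobenius [Finite k] (G : Over (Spec (CommRingCat.of k))) [IsAffine G.left] :
    ∃ F : G ⟶ G, ∀ s : Γ(G.left, ⊤), F.left.appTop s = s ^ Nat.card k := by
  have := Fintype.ofFinite k
  let j : k →+* Γ(G.left, ⊤) := ((Scheme.ΓSpecIso (CommRingCat.of k)).inv ≫ G.hom.appTop).hom
  let f : Γ(G.left, ⊤) →+* Γ(G.left, ⊤) :=
    @AlgHom.toRingHom _ _ _ _ _ _ j.toAlgebra j.toAlgebra (@FiniteField.frobeniusAlgHom k Γ(G.left, ⊤) _ _ _ j.toAlgebra)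
  have hf : ∀ a, f a = a ^ Nat.card k := fun a => by rw [Nat.card_eq_fintype_card]; rfl
  let F₀ : G.left ⟶ G.left := G.left.isoSpec.hom ≫ Spec.map (CommRingCat.ofHom f) ≫ G.left.isoSpec.inv
  have hF : ∀ s : Γ(G.left, ⊤), F₀.appTop s = s ^ Nat.card k := by
    intro s
    simp only [F₀, Scheme.Hom.comp_appTop, CommRingCat.comp_apply]
    erw [appTop_specMap_pow f _ hf]
    rw [_root_.map_pow]
    congr 1
    rw [← CommRingCat.comp_apply, ← Scheme.Hom.comp_appTop, Iso.hom_inv_id]
    rfl
  refine ⟨Over.homMk F₀ ?_, hF⟩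
  apply ext_of_isAffine
  ext t
  simp only [Scheme.Hom.comp_appTop, CommRingCat.comp_apply]
  rw [hF]
  obtain ⟨c, rfl⟩ := (Scheme.ΓSpecIso (CommRingCat.of k)).commRingCatIsoToRingEquiv.symm.surjective t
  rw [Nat.card_eq_fintype_card, ← _root_.map_pow, ← _root_.map_pow, FiniteField.pow_card]

/-- A torsor under a smooth connected affine group over a finite field has a rational point. -/
theorem torsor_trivial [Finite k] (G : Over (Spec (CommRingCat.of k))) [GrpObj G] [IsAffine G.left]
    [Smooth G.hom] [ConnectedSpace G.left]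
    (X : Over (Spec (CommRingCat.of k))) [LocallyOfFiniteType X.hom] [Nonempty ↥X.left]
    (a : AlgGrp.Action G X) (hX : IsIso (lift a.act (snd G X))) :
    Nonempty (𝟙_ (Over (Spec (CommRingCat.of k))) ⟶ X) := by
  have := Fintype.ofFinite k
  let Ω := AlgebraicClosure k
  let b : Spec (CommRingCat.of Ω) ⟶ Spec (CommRingCat.of k) := extBase k Ω
  let P : Over (Spec (CommRingCat.of k)) := Over.mk b
  let σ : Ω →ₐ[k] Ω := FiniteField.frobeniusAlgHom k Ω
  have hσ : ∀ z, σ.toRingHom z = z ^ Nat.card k := fun z => by rw [Nat.card_eq_fintype_card]; rfl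
  let φ : P ⟶ P := Over.homMk (Spec.map (CommRingCat.ofHom σ.toRingHom)) (by
    show Spec.map _ ≫ Spec.map _ = Spec.map _
    rw [← Spec.map_comp, ← CommRingCat.ofHom_comp]
    exact congrArg (fun f => Spec.map (CommRingCat.ofHom f)) σ.comp_algebraMap)
  -- points of lft schemes over Ω
  have pts : ∀ {Z : Scheme.{u}} (g : Z ⟶ Spec (CommRingCat.of Ω)) [LocallyOfFiniteType g] [Nonempty Z],
      ∃ s : Spec (CommRingCat.of Ω) ⟶ Z, s ≫ g = 𝟙 _ := by
    intro Z g _ _
    have : JacobsonSpace Z := LocallyOfFiniteType.jacobsonSpace g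
    obtain ⟨c, -, hc⟩ := nonempty_inter_closedPoints (X := Z) Set.univ_nonempty isClosed_univ.isLocallyClosed
    exact ⟨pointOfClosedPoint g c hc, pointOfClosedPoint_comp g c hc⟩
  -- a geometric point of X
  obtain ⟨x⟩ : Nonempty (P ⟶ X) := by
    have : Surjective (bcProj b X) := (bcProj_surjective_flat_qc k Ω X).1.1
    have : Nonempty (Red.bc b X).left := ⟨(this.surj (Classical.arbitrary _)).choose⟩
    have : LocallyOfFiniteType (Red.bc b X).hom := bc_hom_of _ X inferInstance
    obtain ⟨s, hs⟩ := pts (Red.bc b X).hom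
    exact ⟨Over.homMk (s ≫ bcProj b X) (by
      show (s ≫ bcProj b X) ≫ X.hom = b
      rw [Category.assoc, (isPullback_bc b X).w, ← Category.assoc, hs, Category.id_comp])⟩
  -- the unique group element carrying x to its Frobenius transform
  let θ := asIso (lift a.act (snd G X))
  let m := lift (φ ≫ x) x ≫ θ.inv
  let a₀ := m ≫ fst G X
  have hm : m ≫ lift a.act (snd G X) = lift (φ ≫ x) x := by
    show (_ ≫ θ.inv) ≫ θ.hom = _
    simp
  have hsnd : m ≫ snd G X = x := by
    have := congrArg (fun f => f ≫ snd X X) hm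
    simpa using this
  have ha₀ : lift a₀ x ≫ a.act = φ ≫ x := by
    have h1 : lift a₀ x = m := by ext1 <;> simp [a₀, hsnd]
    rw [h1]
    have := congrArg (fun f => f ≫ fst X X) hm
    simpa using this
  -- Frobenius and Lang
  obtain ⟨F, hF⟩ := exists_frobenius G
  have hL : Surjective ((𝟙 G * F⁻¹ : G ⟶ G).left) := Lang.lang_map_surjective G F hF
  obtain ⟨g, hg⟩ : ∃ g : P ⟶ G, g ≫ (𝟙 G * F⁻¹) = a₀⁻¹ := by
    let L := (𝟙 G * F⁻¹ : G ⟶ G)
    have : LocallyOfFiniteType L.left := by
      have : LocallyOfFiniteType (L.left ≫ G.hom) := by rw [Over.w L]; infer_instance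
      exact locallyOfFiniteType_of_comp L.left G.hom
    have : Nonempty ↥(pullback (a₀⁻¹).left L.left) := by
      have : Surjective (pullback.fst (a₀⁻¹).left L.left) :=
        MorphismProperty.of_isPullback (P := @Surjective) (IsPullback.of_hasPullback _ _).flip hL
      exact ⟨(this.surj (IsLocalRing.closedPoint Ω : ↥(Spec (CommRingCat.of Ω)))).choose⟩
    have : LocallyOfFiniteType (pullback.fst (a₀⁻¹).left L.left) := inferInstance
    obtain ⟨s, hs⟩ := pts (pullback.fst (a₀⁻¹).left L.left : _ ⟶ Spec (CommRingCat.of Ω))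
    have hs' : (s ≫ pullback.snd (a₀⁻¹).left L.left) ≫ L.left = (a₀⁻¹).left := by
      rw [Category.assoc, ← pullback.condition, ← Category.assoc, hs, Category.id_comp]
    exact ⟨Over.homMk (s ≫ pullback.snd _ _) (by
      rw [← Over.w L, ← Category.assoc, hs', Over.w (a₀⁻¹)]), Over.OverMorphism.ext hs'⟩
  have hnat : φ ≫ g = g ≫ F := by
    apply Over.OverMorphism.ext
    apply ext_of_isAffine
    ext s
    simp only [Over.comp_left, Scheme.Hom.comp_appTop, CommRingCat.comp_apply, hF, _root_.map_pow]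
    exact appTop_specMap_pow σ.toRingHom _ hσ _
  let y := lift g⁻¹ x ≫ a.act
  have hy : φ ≫ y = y := by
    show φ ≫ lift g⁻¹ x ≫ a.act = lift g⁻¹ x ≫ a.act
    rw [comp_lift_assoc, ← ha₀, ← act_mul a]
    congr 2
    rw [GrpObj.comp_inv, hnat]
    rw [MonObj.comp_mul, GrpObj.comp_inv, Category.comp_id] at hg
    replace hg := inv_eq_iff_eq_inv.mpr hg |>.symm
    rw [hg, _root_.mul_inv_rev, _root_.inv_inv, inv_mul_cancel_left]
  -- descend
  let e := Scheme.SpecToEquivOfField Ω X.left
  let p := (e y.left).1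
  let ψ := (e y.left).2
  have hψ : Spec.map ψ ≫ X.left.fromSpecResidueField p = y.left := e.symm_apply_apply y.left
  have hfix : ψ ≫ CommRingCat.ofHom σ.toRingHom = ψ := by
    have h1 : e.symm ⟨p, ψ ≫ CommRingCat.ofHom σ.toRingHom⟩ = e.symm ⟨p, ψ⟩ := by
      show Spec.map (ψ ≫ CommRingCat.ofHom σ.toRingHom) ≫ _ = Spec.map ψ ≫ _
      rw [Spec.map_comp, Category.assoc, hψ]
      exact congrArg (fun f : P ⟶ X => f.left) hy
    exact eq_of_heq (Sigma.mk.inj (e.symm.injective h1)).2
  have hrange : ∀ z, ψ.hom z ∈ (algebraMap k Ω).range := by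
    intro z
    have hz : (ψ.hom z) ^ Fintype.card k = ψ.hom z := by
      have := congrArg (fun f => f.hom z) hfix
      simpa [σ] using this
    have hroot : ψ.hom z ∈ ((Polynomial.X ^ Fintype.card k - Polynomial.X : Polynomial k).map
        (algebraMap k Ω)).roots := by
      rw [Polynomial.mem_roots']
      refine ⟨?_, by simp [hz, sub_eq_zero]⟩
      exact (Polynomial.map_ne_zero_iff (algebraMap k Ω).injective).mpr
        (FiniteField.X_pow_card_sub_X_ne_zero k Fintype.one_lt_card)
    have hsplit := Polynomial.roots_map_of_injective_of_card_eq_natDegree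
      (f := algebraMap k Ω) (algebraMap k Ω).injective
      (p := (Polynomial.X ^ Fintype.card k - Polynomial.X : Polynomial k)) (by
        rw [FiniteField.roots_X_pow_card_sub_X, FiniteField.X_pow_card_sub_X_natDegree_eq _ Fintype.one_lt_card]
        rfl)
    rw [← hsplit, Multiset.mem_map] at hroot
    obtain ⟨w, -, hw⟩ := hroot
    exact ⟨w, hw⟩
  let ec := RingEquiv.ofBijective (algebraMap k Ω).rangeRestrict
    ⟨fun u v h => (algebraMap k Ω).injective (congrArg Subtype.val h), (algebraMap k Ω).rangeRestrict_surjective⟩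
  let ψ₀ : X.left.residueField p ⟶ CommRingCat.of k :=
    CommRingCat.ofHom (ec.symm.toRingHom.comp (ψ.hom.codRestrict _ hrange))
  have hψ₀ : ψ₀ ≫ CommRingCat.ofHom (algebraMap k Ω) = ψ := by
    ext z
    exact congrArg Subtype.val (ec.apply_symm_apply ⟨ψ.hom z, hrange z⟩)
  let r : Spec (CommRingCat.of k) ⟶ X.left := Spec.map ψ₀ ≫ X.left.fromSpecResidueField p
  have hr : b ≫ r = y.left := by
    show Spec.map _ ≫ Spec.map ψ₀ ≫ _ = _
    rw [← Spec.map_comp_assoc, hψ₀, hψ]
  obtain ⟨θ', hθ'⟩ : ∃ θ', Spec.map θ' = r ≫ X.hom := ⟨_, Spec.map_preimage _⟩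
  have hid : θ' = 𝟙 _ := by
    have h1 : Spec.map (θ' ≫ CommRingCat.ofHom (algebraMap k Ω)) = Spec.map (CommRingCat.ofHom (algebraMap k Ω)) := by
      rw [Spec.map_comp, hθ', ← Category.assoc]
      show (b ≫ r) ≫ X.hom = b
      rw [hr, Over.w y]
      rfl
    have h2 := Spec.map_injective h1
    ext z
    exact (algebraMap k Ω).injective (congrArg (fun f => f.hom z) h2)
  exact ⟨Over.homMk r (by rw [← hθ', hid, Spec.map_id]; rfl)⟩

end Groth.Agent.H1.LangTorsor
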