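import Mathlib.RingTheory.Bialgebra.Convolution
import Mathlib.RingTheory.FiniteType
import Mathlib.RingTheory.KrullDimension.Basic
import Mathlib.RingTheory.Ideal.GoingUp
import Mathlib.RingTheory.Adjoin.Basic
import Mathlib.RingTheory.TensorProduct.Finite
import Mathlib.LinearAlgebra.TensorProduct.Basis
import Mathlib.RingTheory.IntegralClosure.IsIntegral.Basic
import Mathlib.RingTheory.KrullDimension.NonZeroDivisors
import Mathlib.RingTheory.Spectrum.Prime.Topology

/-!
# The algebra behind Lang's theorem

If `A` is a finitely generated bialgebra domain and `χ * id` is the `q`-th power map (`2 ≤ q`) for an algebra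
endomorphism `χ`, then `A` is finite over the image of `χ`, and `χ` is injective.
-/

universe u

open TensorProduct Coalgebra

namespace Groth.Agent.H1.LangCore

variable {k : Type u} [Field k] {A : Type*} [CommRing A] [Bialgebra k A]

/-- Every element lies in a finite dimensional subspace `V` with `Δ V ⊆ A ⊗ V`. -/
theorem exists_left_coideal (v : A) : ∃ V : Submodule k A, V.FG ∧ v ∈ V ∧
    ∀ w ∈ V, comul (R := k) w ∈ LinearMap.range (V.subtype.lTensor A) := by
  classical
  let b := Module.Free.chooseBasis k A
  let e := TensorProduct.equivFinsuppOfBasisLeft (N := A) b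
  let c := e (comul (R := k) v)
  let V : Submodule k A := Submodule.span k (c.support.image c : Set A)
  have hc : ∀ i, c i ∈ V := fun i => by
    by_cases h : i ∈ c.support
    · exact Submodule.subset_span (Finset.mem_coe.mpr (Finset.mem_image_of_mem _ h))
    · rw [Finsupp.notMem_support_iff.mp h]; exact V.zero_mem
  have hexp : comul (R := k) v = c.sum fun i n => b i ⊗ₜ[k] n := by
    conv_lhs => rw [← e.symm_apply_apply (comul (R := k) v)]
    rw [TensorProduct.equivFinsuppOfBasisLeft_symm_apply]
  refine ⟨V, ⟨_, rfl⟩, ?_, fun w hw => ?_⟩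
  · have h := Coalgebra.rTensor_counit_comul (R := k) v
    apply_fun TensorProduct.lid k A at h
    rw [TensorProduct.lid_tmul, one_smul, hexp, map_finsuppSum, map_finsuppSum] at h
    rw [← h]
    refine Submodule.sum_mem _ fun i _ => ?_
    show TensorProduct.lid k A (LinearMap.rTensor A counit (b i ⊗ₜ[k] c i)) ∈ V
    rw [LinearMap.rTensor_tmul, TensorProduct.lid_tmul]
    exact V.smul_mem _ (hc i)
  · suffices hmem : ∀ i, comul (R := k) (c i) ∈ LinearMap.range (V.subtype.lTensor A) by
      induction hw using Submodule.span_induction with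
      | mem x hx =>
        obtain ⟨i, -, rfl⟩ := Finset.mem_image.mp (Finset.mem_coe.mp hx)
        exact hmem i
      | zero => rw [map_zero]; exact Submodule.zero_mem _
      | add x y _ _ hx hy => rw [map_add]; exact add_mem hx hy
      | smul a x _ hx => rw [map_smul]; exact Submodule.smul_mem _ a hx
    intro j
    let π : A ⊗[k] (A ⊗[k] A) →ₗ[k] A ⊗[k] A :=
      (TensorProduct.lid k (A ⊗[k] A)).toLinearMap ∘ₗ (b.coord j).rTensor (A ⊗[k] A)
    have h := Coalgebra.coassoc_apply (R := k) v
    apply_fun π at h
    have hr : π ((comul (R := k) (A := A)).lTensor A (comul (R := k) v)) = comul (R := k) (c j) := by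
      rw [hexp, map_finsuppSum, map_finsuppSum]
      have : ∀ i, π ((comul (R := k) (A := A)).lTensor A (b i ⊗ₜ[k] c i)) =
          if i = j then comul (R := k) (c i) else 0 := by
        intro i
        simp only [π, LinearMap.coe_comp, Function.comp_apply, LinearMap.lTensor_tmul,
          LinearMap.rTensor_tmul, LinearEquiv.coe_coe, TensorProduct.lid_tmul, Module.Basis.coord_apply,
          Module.Basis.repr_self, Finsupp.single_apply]
        split_ifs <;> simp
      rw [Finsupp.sum, Finset.sum_congr rfl fun i _ => this i, Finset.sum_ite_eq']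
      split_ifs with hj
      · rfl
      · rw [Finsupp.notMem_support_iff.mp hj, map_zero]
    rw [← hr, ← h, hexp, map_finsuppSum, map_finsuppSum, map_finsuppSum]
    refine Submodule.sum_mem _ fun i _ => ?_
    show π (TensorProduct.assoc k A A A (LinearMap.rTensor A comul (b i ⊗ₜ[k] c i))) ∈ _
    rw [LinearMap.rTensor_tmul]
    induction comul (R := k) (b i) using TensorProduct.induction_on with
    | zero => simp
    | tmul x y =>
      simp only [TensorProduct.assoc_tmul, π, LinearMap.coe_comp, Function.comp_apply,
        LinearMap.rTensor_tmul, LinearEquiv.coe_coe, TensorProduct.lid_tmul]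
      exact Submodule.smul_mem _ _ ⟨y ⊗ₜ[k] ⟨c i, hc i⟩, by simp⟩
    | add x y hx hy => rw [TensorProduct.add_tmul, map_add, map_add]; exact add_mem hx hy

/-- A finite set lies in a finite dimensional subspace `V` with `Δ V ⊆ A ⊗ V`. -/
theorem exists_left_coideal_finset (s : Finset A) : ∃ V : Submodule k A, V.FG ∧ (s : Set A) ⊆ V ∧
    ∀ w ∈ V, comul (R := k) w ∈ LinearMap.range (V.subtype.lTensor A) := by
  classical
  induction s using Finset.induction_on with
  | empty => exact ⟨⊥, Submodule.fg_bot, by simp, fun w hw => by simp [(Submodule.mem_bot k).mp hw]⟩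
  | insert a s _ ih =>
    obtain ⟨V, hV, hsV, hVc⟩ := ih
    obtain ⟨W, hW, haW, hWc⟩ := exists_left_coideal (k := k) a
    have mono : ∀ U : Submodule k A, U ≤ V ⊔ W →
        LinearMap.range (U.subtype.lTensor A) ≤ LinearMap.range ((V ⊔ W).subtype.lTensor A) := by
      intro U hU
      rw [← Submodule.subtype_comp_inclusion _ _ hU, LinearMap.lTensor_comp]
      exact LinearMap.range_comp_le_range _ _
    refine ⟨V ⊔ W, hV.sup hW, ?_, fun w hw => ?_⟩
    · rw [Finset.coe_insert, Set.insert_subset_iff]
      exact ⟨Submodule.mem_sup_right haW, fun x hx => Submodule.mem_sup_left (hsV hx)⟩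
    · obtain ⟨x, hx, y, hy, rfl⟩ := Submodule.mem_sup.mp hw
      rw [map_add]
      exact add_mem (mono V le_sup_left (hVc x hx)) (mono W le_sup_right (hWc y hy))

/-- If the `q`-th powers of algebra generators are linear combinations of them, the algebra is module finite. -/
theorem finite_of_pow_mem_span {R : Type*} [CommRing R] [Algebra R A] (t : Finset A)
    (hgen : Algebra.adjoin R (t : Set A) = ⊤) (q : ℕ) (hq : 2 ≤ q)
    (h : ∀ x ∈ t, x ^ q ∈ Submodule.span R (t : Set A)) : Module.Finite R A := by
  classical
  let mon : (t → ℕ) → A := fun d => ∏ x : t, (x : A) ^ d x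
  let D : Set (t → ℕ) := {d | ∀ x, d x < q}
  have hD : D.Finite := by
    refine (Set.Finite.pi (t := fun _ : t => Set.Iio q) fun _ => Set.finite_Iio q).subset fun d hd x _ => hd x
  let M : Submodule R A := Submodule.span R (mon '' D)
  have hmul : ∀ (d : t → ℕ) (y : t), mon d * (y : A) = mon (d + Pi.single y 1) := by
    intro d y
    simp only [mon, Pi.add_apply, pow_add, Finset.prod_mul_distrib]
    congr 1
    rw [Finset.prod_eq_single y] <;> simp +contextual [Pi.single_apply]
  have hmon : ∀ n, ∀ d : t → ℕ, ∑ x, d x = n → mon d ∈ M := by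
    intro n
    induction n using Nat.strong_induction_on with
    | _ n ih =>
      intro d hd
      by_cases hdD : ∀ x, d x < q
      · exact Submodule.subset_span ⟨d, hdD, rfl⟩
      push Not at hdD
      obtain ⟨x, hx⟩ := hdD
      let d' : t → ℕ := Function.update d x (d x - q)
      have hd' : d = d' + Pi.single x q := by
        funext y
        rcases eq_or_ne y x with rfl | hy
        · simp [d']; omega
        · simp [d', hy]
      have hsum : ∑ y, d' y + q = n := by
        rw [← hd, hd']; simp [Finset.sum_add_distrib]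
      have hfac : mon d = mon d' * (x : A) ^ q := by
        rw [hd']
        simp only [mon, Pi.add_apply, pow_add, Finset.prod_mul_distrib]
        congr 1
        rw [Finset.prod_eq_single x] <;> simp +contextual [Pi.single_apply]
      rw [hfac]
      have hle : Submodule.span R (t : Set A) ≤ M.comap (LinearMap.mulLeft R (mon d')) := by
        rw [Submodule.span_le]
        intro y hy
        show mon d' * y ∈ M
        rw [hmul d' ⟨y, hy⟩]
        exact ih (∑ z, d' z + 1) (by omega) _ (by simp [Finset.sum_add_distrib])
      exact hle (h x x.2)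
  refine ⟨⟨(hD.image mon).toFinset, ?_⟩⟩
  rw [Set.Finite.coe_toFinset, eq_top_iff, ← Algebra.top_toSubmodule, ← hgen, Algebra.adjoin_eq_span,
    Submodule.span_le]
  intro a ha
  obtain ⟨d, rfl⟩ : ∃ d, mon d = a := by
    induction ha using Submonoid.closure_induction with
    | mem x hx => exact ⟨Pi.single ⟨x, hx⟩ 1, (Finset.prod_eq_single (⟨x, hx⟩ : t) (by simp +contextual) (by simp)).trans (by simp)⟩
    | one => exact ⟨0, by simp [mon]⟩
    | mul x y _ _ hx hy =>
      obtain ⟨dx, rfl⟩ := hx
      obtain ⟨dy, rfl⟩ := hy
      exact ⟨dx + dy, by simp [mon, pow_add, Finset.prod_mul_distrib]⟩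
  exact hmon _ d rfl

/-- `χ * id = (q-th power)` makes `A` finite over the image of `χ`. -/
theorem finite_of_convMul_eq_pow [Algebra.FiniteType k A] (χ : A →ₐ[k] A) (q : ℕ) (hq : 2 ≤ q)
    (h : ∀ a : A, (WithConv.toConv χ * WithConv.toConv (AlgHom.id k A)).ofConv a = a ^ q) :
    χ.toRingHom.Finite := by
  classical
  obtain ⟨s, hs⟩ := (inferInstance : Algebra.FiniteType k A).out
  obtain ⟨V, hVfg, hsV, hVc⟩ := exists_left_coideal_finset (k := k) s
  obtain ⟨t, ht⟩ := hVfg
  suffices hfin : Module.Finite χ.range A by
    have h1 : (algebraMap χ.range A).Finite := RingHom.finite_algebraMap.mpr hfin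
    have h2 : χ.rangeRestrict.toRingHom.Finite := RingHom.Finite.of_surjective _ χ.rangeRestrict_surjective
    exact h1.comp h2
  refine finite_of_pow_mem_span (R := χ.range) t ?_ q hq fun x hx => ?_
  · rw [eq_top_iff]
    intro a _
    have ha : a ∈ Algebra.adjoin k (t : Set A) := by
      have : Algebra.adjoin k (s : Set A) ≤ Algebra.adjoin k (t : Set A) := by
        refine Algebra.adjoin_le fun y hy => Algebra.span_le_adjoin k _ ?_
        rw [ht]; exact hsV hy
      exact this (hs ▸ Algebra.mem_top)
    induction ha using Algebra.adjoin_induction with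
    | mem y hy => exact Algebra.subset_adjoin hy
    | algebraMap r =>
      rw [IsScalarTower.algebraMap_apply k χ.range A r]; exact Subalgebra.algebraMap_mem _ _
    | add y z _ _ hy hz => exact add_mem (hy trivial) (hz trivial)
    | mul y z _ _ hy hz => exact mul_mem (hy trivial) (hz trivial)
  · have hxV : x ∈ V := ht ▸ Submodule.subset_span hx
    obtain ⟨z, hz⟩ := hVc x hxV
    rw [← h x, AlgHom.convMul_apply, ← hz]
    clear hz
    induction z using TensorProduct.induction_on with
    | zero => simp
    | tmul a w =>
      have hw : (w : A) ∈ Submodule.span k (t : Set A) := ht.symm ▸ w.2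
      have hw' : (w : A) ∈ Submodule.span χ.range (t : Set A) := by
        refine Submodule.span_induction (fun y hy => Submodule.subset_span hy) (Submodule.zero_mem _)
          (fun y y' _ _ hy hy' => add_mem hy hy') (fun r y _ hy => ?_) hw
        rw [← algebraMap_smul χ.range r y]
        exact Submodule.smul_mem _ _ hy
      have := Submodule.smul_mem _ (⟨χ a, a, rfl⟩ : χ.range) hw'
      simpa [Subalgebra.smul_def] using this
    | add y y' hy hy' => simp only [map_add]; exact add_mem hy hy'

/-- An endomorphism of a finitely generated domain over which the domain is finite is injective. -/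
theorem injective_of_finite [Algebra.FiniteType k A] [IsDomain A] (χ : A →ₐ[k] A)
    (hdim : ringKrullDim A < ⊤) (h : χ.toRingHom.Finite) : Function.Injective χ := by
  by_contra hni
  let I : Ideal A := RingHom.ker χ.toRingHom
  obtain ⟨x, hxI, hx0⟩ : ∃ x ∈ I, x ≠ 0 := by
    by_contra hh
    push Not at hh
    exact hni ((injective_iff_map_eq_zero _).mpr hh)
  letI : Algebra (A ⧸ I) A := (RingHom.kerLift χ.toRingHom).toAlgebra
  have hint : Algebra.IsIntegral (A ⧸ I) A := by
    refine ⟨fun a => ?_⟩
    obtain ⟨p, hp, hpa⟩ := h.to_isIntegral a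
    exact ⟨p.map (Ideal.Quotient.mk I), hp.map _, by rw [Polynomial.eval₂_map]; exact hpa⟩
  have h1 : ringKrullDim A ≤ ringKrullDim (A ⧸ I) := by
    refine Order.krullDim_le_of_strictMono (PrimeSpectrum.comap (algebraMap (A ⧸ I) A)) ?_
    intro P Q hPQ
    exact Ideal.IsIntegral.comap_lt_comap hPQ
  have h2 : ringKrullDim (A ⧸ I) + 1 ≤ ringKrullDim A :=
    ringKrullDim_quotient_succ_le_of_nonZeroDivisor (r := x) (mem_nonZeroDivisors_of_ne_zero hx0) |>
      (le_trans (add_le_add (ringKrullDim_le_of_surjective
        (Ideal.Quotient.factor ((Ideal.span_singleton_le_iff_mem I).mpr hxI))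
        (Ideal.Quotient.factor_surjective _)) (le_refl (1 : WithBot ℕ∞))))
  have h3 : ringKrullDim A + 1 ≤ ringKrullDim A := (add_le_add h1 (le_refl (1 : WithBot ℕ∞))).trans h2
  have : Nontrivial A := inferInstance
  obtain hbot | ⟨n, hn⟩ : ringKrullDim A = ⊥ ∨ ∃ n : ℕ, ringKrullDim A = n := by
    revert hdim
    generalize ringKrullDim A = d
    intro hd
    induction d with
    | bot => exact Or.inl rfl
    | coe e =>
      induction e with
      | top => exact absurd hd (lt_irrefl _)
      | coe n => exact Or.inr ⟨n, rfl⟩
  · exact absurd hbot (ne_of_gt (lt_of_lt_of_le (WithBot.bot_lt_coe 0) ringKrullDim_nonneg_of_nontrivial))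
  · rw [hn] at h3
    exact_mod_cast (Nat.not_succ_le_self n) (by exact_mod_cast h3)

end Groth.Agent.H1.LangCore
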