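import Groth.Agent.H1.Hopf
import Groth.Agent.H1.GrpIrred
import Groth.Agent.H1.LangCore
import Mathlib.RingTheory.Jacobson.Ring
import Mathlib.RingTheory.Ideal.GoingUp
import Mathlib.SetTheory.Cardinal.Finite
import Mathlib.RingTheory.KrullDimension.Polynomial
import Mathlib.RingTheory.KrullDimension.Field

/-!
# Lang's theorem: `g ↦ g · F(g)⁻¹` is surjective
-/

universe u

open CategoryTheory MonoidalCategory CartesianMonoidalCategory MonObj GrpObj AlgebraicGeometry

namespace Groth.Agent.H1.Lang

open Groth.Agent.Lib.GrpSch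

variable {k : Type u} [Field k]

theorem ringKrullDim_lt_top (A : Type u) [CommRing A] [Algebra k A] [Algebra.FiniteType k A] :
    ringKrullDim A < ⊤ := by
  obtain ⟨n, f, hf⟩ := Algebra.FiniteType.iff_quotient_mvPolynomial''.mp ‹Algebra.FiniteType k A›
  refine (ringKrullDim_le_of_surjective f.toRingHom hf).trans_lt ?_
  rw [MvPolynomial.ringKrullDim_of_isNoetherianRing, ringKrullDim_eq_zero_of_field]
  rw [zero_add]
  exact WithBot.coe_lt_coe.mpr (ENat.coe_lt_top _)

theorem lang_map_surjective [Finite k] (G : Over (Spec (CommRingCat.of k))) [GrpObj G] [IsAffine G.left]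
    [Smooth G.hom] [ConnectedSpace G.left]
    (F : G ⟶ G) (hF : ∀ s : Γ(G.left, ⊤), F.left.appTop s = s ^ Nat.card k) :
    Surjective ((𝟙 G * F⁻¹ : G ⟶ G).left) := by
  obtain ⟨A, _, _, e, he⟩ := Hopf.exists_iso G
  let Y := (Spec (CommRingCat.of A)).asOver (Spec (CommRingCat.of k))
  have : IsMonHom e.inv := inferInstance
  have : IsIso e.inv.left := ((Over.forget _).mapIso e.symm).isIso_hom
  have : IsIso e.hom.left := ((Over.forget _).mapIso e).isIso_hom
  have hY : LocallyOfFiniteType Y.hom := by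
    rw [← Over.w e.inv]; infer_instance
  have := Hopf.finiteType_of_locallyOfFiniteType hY
  have : QuasiCompact G.hom := inferInstance
  have := GrpIrred.isIntegral G
  have hint : IsIntegral (Spec (CommRingCat.of A)) := @IsIntegral.of_isIso G.left (Spec (CommRingCat.of A)) inferInstance e.hom.left ((Over.forget _).mapIso e).isIso_hom
  have : IsDomain A := (affine_isIntegral_iff (CommRingCat.of A)).mp hint
  let q := Nat.card k
  have hq : 2 ≤ q := Finite.one_lt_card
  let F' : Y ⟶ Y := e.inv ≫ F ≫ e.hom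
  let L : G ⟶ G := 𝟙 G * F⁻¹
  let L' : Y ⟶ Y := 𝟙 Y * F'⁻¹
  have hL : L' = e.inv ≫ L ≫ e.hom := by
    simp only [L, L', F', MonObj.mul_comp, MonObj.comp_mul, GrpObj.inv_comp, GrpObj.comp_inv,
      Category.id_comp, Iso.inv_hom_id]
    rfl
  let φ : A →ₐ[k] A := (Spec.mapMulEquiv.symm F').ofConv
  have hφ : ∀ a : A, φ a = a ^ q := by
    intro a
    have key : ∀ s : Γ(Y.left, ⊤), F'.left.appTop s = s ^ q := by
      intro s
      simp only [F', Over.comp_left, Scheme.Hom.comp_appTop, CommRingCat.comp_apply, hF]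
      rw [map_pow]
      congr 1
      rw [← CommRingCat.comp_apply, ← Scheme.Hom.comp_appTop, ← Over.comp_left, Iso.inv_hom_id]
      rfl
    let σ := Scheme.ΓSpecIso (CommRingCat.of A)
    have h1 := key (σ.inv a)
    rw [Hopf.left_eq_specMap F'] at h1
    have h2 := congrArg σ.hom h1
    have nat := congrArg (fun f => f.hom (σ.inv a))
      (Scheme.ΓSpecIso_naturality (CommRingCat.ofHom φ.toRingHom))
    simp only [map_pow, CommRingCat.hom_comp, RingHom.comp_apply, σ] at h2 nat
    erw [nat] at h2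
    simp only [Iso.inv_hom_id_apply] at h2
    refine h2.trans ((_root_.map_pow (Scheme.ΓSpecIso (CommRingCat.of A)).hom.hom _ _).trans ?_)
    congr 1
    exact Iso.inv_hom_id_apply (Scheme.ΓSpecIso (CommRingCat.of A)) a
  let χ : A →ₐ[k] A := (Spec.mapMulEquiv.symm L'⁻¹).ofConv
  have hconv : WithConv.toConv χ * WithConv.toConv (AlgHom.id k A) = WithConv.toConv φ := by
    apply Spec.mapMulEquiv.injective
    rw [map_mul, Hopf.mapMulEquiv_id]
    show Spec.mapMulEquiv (Spec.mapMulEquiv.symm L'⁻¹) * 𝟙 Y = Spec.mapMulEquiv (Spec.mapMulEquiv.symm F')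
    rw [MulEquiv.apply_symm_apply, MulEquiv.apply_symm_apply]
    simp [L', _root_.mul_inv_rev]
  have hfin := LangCore.finite_of_convMul_eq_pow χ q hq fun a => by rw [hconv]; exact hφ a
  have hinj := LangCore.injective_of_finite χ (ringKrullDim_lt_top (k := k) A) hfin
  have hsurj : Surjective (Spec.map (CommRingCat.ofHom χ.toRingHom)) := by
    constructor
    intro P
    obtain ⟨Q, hQ⟩ := RingHom.IsIntegral.comap_surjective hfin.to_isIntegral hinj P
    exact ⟨Q, hQ⟩
  have h1 : L'.left = (L'⁻¹).left ≫ (ι[Y]).left := by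
    rw [← Over.comp_left, ← Hom.inv_def, _root_.inv_inv]
  have : IsIso (ι[Y]).left := (Over.forget _).map_isIso ι[Y]
  have h2 : Surjective L'.left := by
    rw [h1]
    have : Surjective (L'⁻¹).left := by rw [Hopf.left_eq_specMap L'⁻¹]; exact hsurj
    infer_instance
  have h3 : L.left = e.hom.left ≫ L'.left ≫ e.inv.left := by
    rw [hL]; simp [← Over.comp_left]
  show Surjective L.left
  rw [h3]
  infer_instance

end Groth.Agent.H1.Lang
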