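import Mathlib.AlgebraicGeometry.Group.Affine
import Mathlib.AlgebraicGeometry.Morphisms.FiniteType

/-!
# An affine group over a field is the spectrum of a Hopf algebra
-/

universe u

open CategoryTheory MonoidalCategory CartesianMonoidalCategory MonObj GrpObj AlgebraicGeometry

namespace Groth.Agent.H1.Hopf

variable {R : Type u} [CommRing R]

/-- An affine group over `Spec R` is isomorphic to the spectrum of a Hopf algebra. -/
theorem exists_iso (G : Over (Spec (CommRingCat.of R))) [GrpObj G] [IsAffine G.left] :
    ∃ (A : Type u) (_ : CommRing A) (_ : HopfAlgebra R A)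
      (e : G ≅ (Spec (CommRingCat.of A)).asOver (Spec (CommRingCat.of R))), IsMonHom e.hom := by
  obtain ⟨H, ⟨iso⟩⟩ := (essImage_hopfSpec (R := CommRingCat.of R) (G := Grp.mk G)).mpr
    (show IsAffine G.left by infer_instance)
  let e : G ≅ ((hopfSpec (CommRingCat.of R)).obj H).X := (Grp.forget _).mapIso iso.symm
  exact ⟨H.unop, inferInstance, inferInstance, e, iso.symm.hom.hom.isMonHom_hom⟩

theorem finiteType_of_locallyOfFiniteType {A : Type u} [CommRing A] [Algebra R A]
    (h : LocallyOfFiniteType ((Spec (CommRingCat.of A)).asOver (Spec (CommRingCat.of R))).hom) :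
    Algebra.FiniteType R A := by
  have h' : LocallyOfFiniteType (Spec.map (CommRingCat.ofHom (algebraMap R A))) := h
  rw [HasRingHomProperty.Spec_iff (P := @LocallyOfFiniteType)] at h'
  exact RingHom.finiteType_algebraMap.mp h'

/-- `Spec.mapMulEquiv` sends the identity to the identity. -/
theorem mapMulEquiv_id {A : Type u} [CommRing A] [HopfAlgebra R A] :
    Spec.mapMulEquiv (WithConv.toConv (AlgHom.id R A)) =
      𝟙 ((Spec (CommRingCat.of A)).asOver (Spec (CommRingCat.of R))) := by
  ext1
  show Spec.map _ = 𝟙 _
  simp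

theorem left_eq_specMap {A : Type u} [CommRing A] [HopfAlgebra R A]
    (f : (Spec (CommRingCat.of A)).asOver (Spec (CommRingCat.of R)) ⟶
      (Spec (CommRingCat.of A)).asOver (Spec (CommRingCat.of R))) :
    f.left = Spec.map (CommRingCat.ofHom (Spec.mapMulEquiv.symm f).ofConv.toRingHom) := by
  conv_lhs => rw [← Spec.mapMulEquiv.apply_symm_apply f]
  rfl

end Groth.Agent.H1.Hopf
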