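import Mathlib.RingTheory.Spectrum.Prime.Chevalley
import Mathlib.RingTheory.Spectrum.Prime.ConstructibleSet
import Mathlib.RingTheory.Ideal.MinimalPrime.Localization
import Mathlib.RingTheory.Ideal.MinimalPrime.Noetherian
import Mathlib.RingTheory.Ideal.Height
import Mathlib.RingTheory.Ideal.KrullsHeightTheorem
import Mathlib.RingTheory.Jacobson.Ring

/-!
# Image of the quotient map by a transitively translated subring of invariants
-/

universe u v

namespace Groth.Agent.H1.OpenRange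

variable {R A : Type u} [CommRing R] [CommRing A] {ι : Type v}
  (φ : R →+* A) (tA : ι → A ≃+* A) (tR : ι → R ≃+* R)

theorem comap_tR (hcomm : ∀ i r, φ (tR i r) = tA i (φ r)) (i : ι) (P : Ideal A) :
    (P.comap (tA i : A →+* A)).comap φ = (P.comap φ).comap (tR i : R →+* R) := by
  ext r
  simp only [Ideal.mem_comap, RingEquiv.coe_toRingHom, hcomm]

/-- A minimal prime and an element outside it avoid a common maximal ideal. -/
theorem exists_maximal_notMem [IsJacobsonRing A] (P : Ideal A) [P.IsPrime] {s : A} (hs : s ∉ P) :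
    ∃ m : Ideal A, m.IsMaximal ∧ P ≤ m ∧ s ∉ m := by
  by_contra h
  push Not at h
  apply hs
  rw [← IsJacobsonRing.out' P (Ideal.IsPrime.isRadical ‹_›), Ideal.jacobson, Ideal.mem_sInf]
  exact fun m hm => h m hm.2 hm.1

/-- The translations permute the minimal primes transitively. -/
theorem exists_comap_minimal [IsNoetherianRing A] [IsJacobsonRing A]
    (htr : ∀ m m' : Ideal A, m.IsMaximal → m'.IsMaximal → ∃ i, m.comap (tA i : A →+* A) = m')
    {P P' : Ideal A} (hP : P ∈ minimalPrimes A) (hP' : P' ∈ minimalPrimes A) :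
    ∃ i, P.comap (tA i : A →+* A) = P' := by
  classical
  have hfin := minimalPrimes.finite_of_isNoetherianRing A
  have hex : ∀ Q ∈ minimalPrimes A, ∃ m : Ideal A, m.IsMaximal ∧ Q ≤ m ∧
      ∀ Q' ∈ minimalPrimes A, Q' ≤ m → Q' = Q := by
    intro Q hQ
    have : Q.IsPrime := hQ.1.1
    have hsel : ∀ Q' ∈ minimalPrimes A, Q' ≠ Q → ∃ s ∈ Q', s ∉ Q := by
      intro Q' hQ' hne
      by_contra h
      push Not at h
      exact hne (le_antisymm h (hQ.2 ⟨hQ'.1.1, bot_le⟩ h))
    choose! s hs hsn using hsel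
    obtain ⟨m, hm, hQm, hsm⟩ := exists_maximal_notMem Q (s := ∏ Q' ∈ hfin.toFinset.erase Q, s Q') (by
      intro h
      obtain ⟨Q', hQ', h'⟩ := Ideal.IsPrime.prod_mem_iff.mp h
      rw [Finset.mem_erase, Set.Finite.mem_toFinset] at hQ'
      exact hsn Q' hQ'.2 hQ'.1 h')
    refine ⟨m, hm, hQm, fun Q' hQ' hle => ?_⟩
    by_contra hne
    exact hsm (Ideal.prod_mem _ (Finset.mem_erase.mpr ⟨hne, hfin.mem_toFinset.mpr hQ'⟩) (hle (hs Q' hQ' hne)))
  obtain ⟨m, hm, hPm, hmu⟩ := hex P hP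
  obtain ⟨m', hm', hPm', hmu'⟩ := hex P' hP'
  obtain ⟨i, hi⟩ := htr m m' hm hm'
  refine ⟨i, ?_⟩
  have : P.IsPrime := hP.1.1
  refine hmu' _ ⟨⟨inferInstance, bot_le⟩, fun Q hQ hle => ?_⟩ (hi ▸ Ideal.comap_mono hPm)
  have : Q.IsPrime := hQ.1
  have h1 : Q.comap ((tA i).symm : A →+* A) ≤ P := fun a (ha : (tA i).symm a ∈ Q) => by
    have h : tA i ((tA i).symm a) ∈ P := hle ha
    rwa [RingEquiv.apply_symm_apply] at h
  intro a (ha : tA i a ∈ P)
  have h2 : (tA i).symm (tA i a) ∈ Q := hP.2 ⟨Ideal.comap_isPrime _ _, bot_le⟩ h1 ha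
  rwa [RingEquiv.symm_apply_apply] at h2

variable [IsNoetherianRing R] [IsNoetherianRing A] [IsJacobsonRing A]

/-- The range is open. -/
theorem isOpen_range (hinj : Function.Injective φ) (hfp : φ.FinitePresentation) [Nontrivial R]
    (hcomm : ∀ i r, φ (tR i r) = tA i (φ r))
    (htr : ∀ m m' : Ideal A, m.IsMaximal → m'.IsMaximal → ∃ i, m.comap (tA i : A →+* A) = m') :
    IsOpen (Set.range (PrimeSpectrum.comap φ)) := by
  classical
  obtain ⟨p, hp⟩ := Ideal.nonempty_minimalPrimes (I := (⊥ : Ideal R)) bot_ne_top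
  have : p.IsPrime := hp.1.1
  obtain ⟨P, hP, hPp⟩ := Ideal.exists_comap_eq_of_mem_minimalPrimes (f := φ) (I := ⊥) p (by
    rw [Ideal.comap_bot_of_injective φ hinj] at *; exact hp)
  have : P.IsPrime := hP
  have hrange : Topology.IsConstructible (Set.range (PrimeSpectrum.comap φ)) :=
    PrimeSpectrum.isConstructible_range_comap hfp
  obtain ⟨S, hS⟩ := PrimeSpectrum.exists_constructibleSetData_iff.mpr hrange
  have hpS : (⟨p, inferInstance⟩ : PrimeSpectrum R) ∈ S.toSet := by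
    rw [hS]
    exact ⟨⟨P, inferInstance⟩, PrimeSpectrum.ext hPp.2⟩
  simp only [PrimeSpectrum.ConstructibleSetData.toSet, Set.mem_iUnion] at hpS
  obtain ⟨C, hC, hpC⟩ := hpS
  -- a generic element
  have hfin := minimalPrimes.finite_of_isNoetherianRing R
  have hsel : ∀ Q ∈ minimalPrimes R, Q ≠ p → ∃ s ∈ Q, s ∉ p := by
    intro Q hQ hne
    by_contra h
    push Not at h
    exact hne (le_antisymm h (hp.2 ⟨hQ.1.1, bot_le⟩ h))
  choose! s hs hsn using hsel
  let r := ∏ Q ∈ hfin.toFinset.erase p, s Q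
  have hrp : r ∉ p := by
    intro h
    obtain ⟨Q, hQ, h'⟩ := Ideal.IsPrime.prod_mem_iff.mp h
    rw [Finset.mem_erase, Set.Finite.mem_toFinset] at hQ
    exact hsn Q hQ.2 hQ.1 h'
  let e := C.f * r
  have hep : e ∉ p := fun h => (Ideal.IsPrime.mem_or_mem inferInstance h).elim
    (fun h1 => hpC.2 (by simpa [PrimeSpectrum.zeroLocus] using h1)) hrp
  have hD : (PrimeSpectrum.basicOpen e : Set (PrimeSpectrum R)) ⊆ Set.range (PrimeSpectrum.comap φ) := by
    intro z hz
    rw [← hS]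
    simp only [PrimeSpectrum.ConstructibleSetData.toSet, Set.mem_iUnion]
    refine ⟨C, hC, ?_, ?_⟩
    · have hple : p ≤ z.asIdeal := by
        obtain ⟨q, hq, hqz⟩ := Ideal.exists_minimalPrimes_le (J := z.asIdeal) bot_le
        by_cases h : q = p
        · exact h ▸ hqz
        · exfalso
          refine hz (Ideal.mul_mem_left _ _ (hqz ?_))
          exact Ideal.prod_mem _ (Finset.mem_erase.mpr ⟨h, hfin.mem_toFinset.mpr hq⟩) (hs q hq h)
      intro a ha
      exact hple (hpC.1 ha)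
    · intro h
      exact hz (Ideal.mul_mem_right _ _ (by simpa [PrimeSpectrum.zeroLocus] using h))
  obtain ⟨m₀, hm₀, -, hem₀⟩ := exists_maximal_notMem P (s := φ e) (fun h => hep (hPp.2 ▸ h))
  rw [isOpen_iff_forall_mem_open]
  rintro y ⟨Q, rfl⟩
  obtain ⟨m, hm, hQm⟩ := Ideal.exists_le_maximal Q.asIdeal Q.2.ne_top
  obtain ⟨i, hi⟩ := htr m m₀ hm hm₀
  refine ⟨PrimeSpectrum.basicOpen (tR i e), ?_, PrimeSpectrum.isOpen_basicOpen, ?_⟩
  · intro z hz
    obtain ⟨w, hw⟩ := hD (show (PrimeSpectrum.comap (tR i : R →+* R) z) ∈ PrimeSpectrum.basicOpen e from hz)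
    refine ⟨PrimeSpectrum.comap ((tA i).symm : A →+* A) w, PrimeSpectrum.ext ?_⟩
    ext a
    obtain ⟨b, rfl⟩ := (tR i).surjective a
    have h := SetLike.ext_iff.mp (congrArg PrimeSpectrum.asIdeal hw) b
    simpa [hcomm] using h
  · intro h
    apply hem₀
    rw [← hi]
    show tA i (φ e) ∈ m
    rw [← hcomm]
    exact hQm h

/-- Points outside the range have height at least two. -/
theorem two_le_height [IsReduced A] [Nontrivial R] (hinj : Function.Injective φ)
    (hopen : IsOpen (Set.range (PrimeSpectrum.comap φ)))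
    (hcomm : ∀ i r, φ (tR i r) = tA i (φ r))
    (htr : ∀ m m' : Ideal A, m.IsMaximal → m'.IsMaximal → ∃ i, m.comap (tA i : A →+* A) = m')
    (hsat : ∀ a : R, φ a ∈ nonZeroDivisors A → ∀ h : A, φ a * h ∈ φ.range → h ∈ φ.range)
    (x : PrimeSpectrum R) (hx : x ∉ Set.range (PrimeSpectrum.comap φ)) : (2 : ℕ∞) ≤ x.asIdeal.height := by
  classical
  have hmin : ∀ p ∈ minimalPrimes R, ∃ P ∈ minimalPrimes A, P.comap φ = p := by
    intro p hp
    obtain ⟨P, hP, hPp⟩ := Ideal.exists_minimalPrimes_comap_eq φ p (by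
      rwa [Ideal.comap_bot_of_injective φ hinj])
    exact ⟨P, hP, hPp⟩
  have hcontr : ∀ P ∈ minimalPrimes A, P.comap φ ∈ minimalPrimes R := by
    intro P hP
    obtain ⟨p, hp⟩ := Ideal.nonempty_minimalPrimes (I := (⊥ : Ideal R)) bot_ne_top
    obtain ⟨P₀, hP₀, hPp⟩ := hmin p hp
    obtain ⟨i, hi⟩ := exists_comap_minimal tA htr hP₀ hP
    rw [← hi, comap_tR φ tA tR hcomm, hPp]
    have : p.IsPrime := hp.1.1
    refine ⟨⟨inferInstance, bot_le⟩, fun Q hQ hle => ?_⟩
    have : Q.IsPrime := hQ.1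
    have h1 : Q.comap ((tR i).symm : R →+* R) ≤ p := fun a (ha : (tR i).symm a ∈ Q) => by
      have h : tR i ((tR i).symm a) ∈ p := hle ha
      rwa [RingEquiv.apply_symm_apply] at h
    intro a (ha : tR i a ∈ p)
    have h2 : (tR i).symm (tR i a) ∈ Q := (hp.2 ⟨Ideal.comap_isPrime _ _, bot_le⟩ h1) ha
    rwa [RingEquiv.symm_apply_apply] at h2
  have hnotmin : x.asIdeal ∉ minimalPrimes R := by
    intro h
    obtain ⟨P, hP, hPp⟩ := hmin _ h
    exact hx ⟨⟨P, hP.1.1⟩, PrimeSpectrum.ext hPp⟩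
  by_contra hlt
  push Not at hlt
  have hle1 : x.asIdeal.height ≤ 1 := (ENat.lt_add_one_iff (by simp)).mp (show x.asIdeal.height < 1 + 1 by rwa [one_add_one_eq_two])
  obtain ⟨a, hax, ha⟩ : ∃ a ∈ x.asIdeal, ∀ p ∈ minimalPrimes R, a ∉ p := by
    have hfin := minimalPrimes.finite_of_isNoetherianRing R
    by_contra h
    push Not at h
    have hsub : (x.asIdeal : Set R) ⊆ ⋃ p ∈ (↑hfin.toFinset : Set (Ideal R)), ((fun p : Ideal R => p) p : Set R) := by
      intro a ha
      obtain ⟨p, hp, hap⟩ := h a ha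
      exact Set.mem_biUnion (by simpa using hp) hap
    obtain ⟨p, hp, hle⟩ := (Ideal.subset_union_prime (f := fun p : Ideal R => p) ⊥ ⊥
      (fun p hp _ _ => (hfin.mem_toFinset.mp hp).1.1)).mp hsub
    rw [Set.Finite.mem_toFinset] at hp
    exact hnotmin (le_antisymm hle (hp.2 ⟨x.2, bot_le⟩ hle) ▸ hp)
  have hnzd : φ a ∈ nonZeroDivisors A := by
    rw [mem_nonZeroDivisors_iff_right]
    intro z hz
    have : z ∈ nilradical A := by
      rw [nilradical_eq_sInf, Ideal.mem_sInf]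
      intro J (hJ : J.IsPrime)
      obtain ⟨P, hP, hPJ⟩ := Ideal.exists_minimalPrimes_le (I := (⊥ : Ideal A)) (J := J) bot_le
      have : P.IsPrime := hP.1.1
      exact hPJ ((Ideal.IsPrime.mem_or_mem inferInstance (hz ▸ P.zero_mem : z * φ a ∈ P)).resolve_right
        (fun h => ha _ (hcontr P hP) h))
    exact (mem_nilradical.mp this).eq_zero
  have hxmin : x.asIdeal ∈ (Ideal.span {a}).minimalPrimes := by
    refine ⟨⟨x.2, (Ideal.span_singleton_le_iff_mem _).mpr hax⟩, fun q ⟨hq, haq⟩ hle => ?_⟩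
    rcases eq_or_lt_of_le (show q ≤ x.asIdeal from hle) with h | h
    · exact h.ge
    · exfalso
      have h0 : q.height < 1 := (Ideal.height_strict_mono_of_isPrime h).trans_le hle1
      obtain ⟨q', hq', hq'q⟩ := Ideal.exists_minimalPrimes_le (J := q) bot_le
      have : q'.IsPrime := hq'.1.1
      rcases eq_or_lt_of_le hq'q with h' | h'
      · exact ha q' hq' (h' ▸ (Ideal.span_singleton_le_iff_mem _).mp haq)
      · have := Ideal.height_strict_mono_of_isPrime h'
        rw [Order.lt_one_iff.mp h0] at this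
        exact not_lt_zero this
  have hfin := Ideal.finite_minimalPrimes_of_isNoetherianRing R (Ideal.span {a})
  have hsel : ∀ Q ∈ (Ideal.span {a}).minimalPrimes, Q ≠ x.asIdeal → ∃ s ∈ Q, s ∉ x.asIdeal := by
    intro Q hQ hne
    by_contra h
    push Not at h
    exact hne (le_antisymm h (hxmin.2 hQ.1 h))
  choose! s hs hsn using hsel
  let b := ∏ Q ∈ hfin.toFinset.erase x.asIdeal, s Q
  have hbx : b ∉ x.asIdeal := by
    intro h
    obtain ⟨Q, hQ, h'⟩ := Ideal.IsPrime.prod_mem_iff.mp h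
    rw [Finset.mem_erase, Set.Finite.mem_toFinset] at hQ
    exact hsn Q hQ.2 hQ.1 h'
  obtain ⟨N, hN⟩ : φ b ∈ (Ideal.span {φ a}).radical := by
    rw [Ideal.radical_eq_sInf, Ideal.mem_sInf]
    rintro P ⟨haP, hP⟩
    obtain ⟨q, hq, hqy⟩ := Ideal.exists_minimalPrimes_le (I := Ideal.span {a}) (J := P.comap φ)
      ((Ideal.span_singleton_le_iff_mem _).mpr (show φ a ∈ P from (Ideal.span_singleton_le_iff_mem _).mp haP))
    have hqx : q ≠ x.asIdeal := by
      rintro rfl
      refine hx (IsOpen.stableUnderGeneralization hopen ?_ ⟨⟨P, hP⟩, rfl⟩)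
      exact (PrimeSpectrum.le_iff_specializes x ⟨P.comap φ, inferInstance⟩).mp hqy
    exact hqy (Ideal.prod_mem _ (Finset.mem_erase.mpr ⟨hqx, hfin.mem_toFinset.mpr hq⟩) (hs q hq hqx))
  obtain ⟨h, hh⟩ := Ideal.mem_span_singleton'.mp hN
  obtain ⟨h', rfl⟩ := hsat a hnzd h ⟨b ^ N, by rw [map_pow, mul_comm, hh]⟩
  have : b ^ N = h' * a := hinj (by rw [map_pow, map_mul, hh])
  exact hbx (x.2.mem_of_pow_mem N (this ▸ Ideal.mul_mem_left _ _ hax))

end Groth.Agent.H1.OpenRange
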