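import Groth.Prelude.Def_W4bk4grossh111Obs
import Groth.Agent.H1.OpenRange
import Groth.Agent.Lib.GrpSch.Translate
import Groth.Agent.Lib.GrpSch.GenericIso
import Groth.Agent.Lib.GrpSch.SmoothReduced
import Mathlib.RingTheory.Flat.TorsionFree
import Mathlib.AlgebraicGeometry.Morphisms.Flat

/-!
# Rings of right-invariant functions: translations, saturation, finiteness
-/

universe u

open CategoryTheory Limits MonoidalCategory CartesianMonoidalCategory MonObj GrpObj AlgebraicGeometry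

namespace Groth.Agent.H1.RInv

open Groth.Agent.Lib.GrpSch

section General

variable {S : Scheme.{u}} {G T : Over S} [GrpObj G]

theorem translate_comm (x : 𝟙_ (Over S) ⟶ G) (g : T ⟶ G) :
    ((G ◁ g) ≫ μ[G]) ≫ (translate (regularAction G) x).hom =
      ((translate (regularAction G) x).hom ▷ T) ≫ ((G ◁ g) ≫ μ[G]) := by
  have hmul : ∀ {X : Over S} (f : X ⟶ G),
      f ≫ (translate (regularAction G) x).hom = (toUnit X ≫ x) * f := by
    intro X f
    rw [comp_translate_hom, Hom.mul_def]; rfl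
  have hμ : (G ◁ g) ≫ μ[G] = fst G T * (snd G T ≫ g) := by
    rw [Hom.mul_def, ← Category.comp_id (fst G T)]
    congr 1
  rw [hmul, hμ, MonObj.comp_mul, whiskerRight_fst, whiskerRight_snd_assoc, hmul,
    _root_.mul_assoc]

theorem mem_of_translate (x : 𝟙_ (Over S) ⟶ G) (g : T ⟶ G) {f : Γ(G.left, ⊤)} (hf : f ∈ AGF.rTransInv g) :
    (translate (regularAction G) x).hom.left.appTop f ∈ AGF.rTransInv g := by
  show ((G ◁ g) ≫ μ[G]).left.appTop _ = (fst G T).left.appTop _
  have hf' : ((G ◁ g) ≫ μ[G]).left.appTop f = (fst G T).left.appTop f := hf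
  rw [← CommRingCat.comp_apply, ← CommRingCat.comp_apply, ← Scheme.Hom.comp_appTop, ← Scheme.Hom.comp_appTop,
    ← Over.comp_left, ← Over.comp_left, translate_comm, Over.comp_left, Scheme.Hom.comp_appTop,
    CommRingCat.comp_apply, hf', ← CommRingCat.comp_apply, ← Scheme.Hom.comp_appTop, ← Over.comp_left,
    whiskerRight_fst]

theorem const_mem (g : T ⟶ G) (c : Γ(S, ⊤)) : G.hom.appTop c ∈ AGF.rTransInv g := by
  show ((G ◁ g) ≫ μ[G]).left.appTop _ = (fst G T).left.appTop _
  rw [← CommRingCat.comp_apply, ← CommRingCat.comp_apply, ← Scheme.Hom.comp_appTop, ← Scheme.Hom.comp_appTop,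
    Over.w, Over.w]

end General

variable {k : Type u} [Field k] {G H : Over (Spec (CommRingCat.of k))} [GrpObj G]

/-- The constants. -/
noncomputable def const (G : Over (Spec (CommRingCat.of k))) : k →+* Γ(G.left, ⊤) :=
  ((Scheme.ΓSpecIso (CommRingCat.of k)).inv ≫ G.hom.appTop).hom

/-- Translation on global functions. -/
noncomputable def tA (x : 𝟙_ (Over (Spec (CommRingCat.of k))) ⟶ G) : Γ(G.left, ⊤) ≃+* Γ(G.left, ⊤) :=
  RingEquiv.ofRingHom (translate (regularAction G) x).hom.left.appTop.hom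
    (translate (regularAction G) x).inv.left.appTop.hom
    (by rw [← CommRingCat.hom_comp, ← Scheme.Hom.comp_appTop, ← Over.comp_left, Iso.hom_inv_id]; rfl)
    (by rw [← CommRingCat.hom_comp, ← Scheme.Hom.comp_appTop, ← Over.comp_left, Iso.inv_hom_id]; rfl)

theorem tA_apply (x : 𝟙_ (Over (Spec (CommRingCat.of k))) ⟶ G) (f : Γ(G.left, ⊤)) :
    tA x f = (translate (regularAction G) x).hom.left.appTop f := rfl

theorem translate_inv_eq (x : 𝟙_ (Over (Spec (CommRingCat.of k))) ⟶ G) :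
    (translate (regularAction G) x).inv = (translate (regularAction G) x⁻¹).hom := rfl

/-- Translation on invariants. -/
noncomputable def tR (x : 𝟙_ (Over (Spec (CommRingCat.of k))) ⟶ G) (i : H ⟶ G) :
    ↥(AGF.rTransInv i) ≃+* ↥(AGF.rTransInv i) where
  toFun f := ⟨tA x f, mem_of_translate x i f.2⟩
  invFun f := ⟨(tA x).symm f, mem_of_translate x⁻¹ i f.2⟩
  left_inv f := Subtype.ext ((tA x).symm_apply_apply _)
  right_inv f := Subtype.ext ((tA x).apply_symm_apply _)
  map_mul' f g := Subtype.ext (map_mul (tA x) _ _)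
  map_add' f g := Subtype.ext (map_add (tA x) _ _)

theorem finiteType_Γ [IsAffine G.left] [LocallyOfFiniteType G.hom] : (const G).FiniteType :=
  (HasRingHomProperty.appTop (P := @LocallyOfFiniteType) G.hom inferInstance).comp
    (RingHom.FiniteType.of_surjective _
      (Scheme.ΓSpecIso (CommRingCat.of k)).commRingCatIsoToRingEquiv.symm.surjective)

theorem isNoetherianRing_Γ [IsAffine G.left] [LocallyOfFiniteType G.hom] : IsNoetherianRing Γ(G.left, ⊤) :=
  letI := (const G).toAlgebra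
  haveI : Algebra.FiniteType k Γ(G.left, ⊤) := finiteType_Γ (G := G)
  Algebra.FiniteType.isNoetherianRing k Γ(G.left, ⊤)

theorem isJacobsonRing_Γ [IsAffine G.left] [LocallyOfFiniteType G.hom] : IsJacobsonRing Γ(G.left, ⊤) :=
  letI := (const G).toAlgebra
  haveI : Algebra.FiniteType k Γ(G.left, ⊤) := finiteType_Γ (G := G)
  isJacobsonRing_of_finiteType (A := k)

/-- A finitely generated ring of invariants is a quotient of a polynomial ring. -/
theorem exists_surjective (i : H ⟶ G) (h : AGF.SubringFGOver k G (AGF.rTransInv i)) :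
    ∃ (s : Finset Γ(G.left, ⊤)) (θ : MvPolynomial s k →+* ↥(AGF.rTransInv i)),
      Function.Surjective θ ∧ ∀ c, (θ (MvPolynomial.C c) : Γ(G.left, ⊤)) = const G c := by
  obtain ⟨s, hs, hle⟩ := h
  refine ⟨s, MvPolynomial.eval₂Hom ((const G).codRestrict _ fun c => const_mem i _) (fun f => ⟨f, hs f.2⟩),
    fun f => ?_, fun c => (congrArg Subtype.val (MvPolynomial.eval₂Hom_C _ _ c)).trans rfl⟩
  let θ : MvPolynomial s k →+* Γ(G.left, ⊤) := MvPolynomial.eval₂Hom (const G) (fun f => (f : Γ(G.left, ⊤)))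
  have hcl : Subring.closure (Set.range (const G) ∪ ↑s) ≤ θ.range := by
    rw [Subring.closure_le]
    rintro _ (⟨c, rfl⟩ | hf)
    · exact ⟨MvPolynomial.C c, by simp [θ]⟩
    · exact ⟨MvPolynomial.X ⟨_, hf⟩, by simp [θ]⟩
  obtain ⟨p, hp⟩ := hcl (hle f.2)
  refine ⟨p, Subtype.ext (Eq.trans ?_ hp)⟩
  have : (Subring.subtype _).comp (MvPolynomial.eval₂Hom ((const G).codRestrict (AGF.rTransInv i)
      fun c => const_mem i _) (fun f : s => (⟨(f : Γ(G.left, ⊤)), hs f.2⟩ : ↥(AGF.rTransInv i)))) = θ := by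
    refine MvPolynomial.ringHom_ext (fun c => ?_) (fun f => ?_) <;> simp [θ] <;> rfl
  exact RingHom.congr_fun this p

/-- Saturation: invariants divisible by a non zero divisor invariant stay invariant after division. -/
theorem saturated [GrpObj H] [IsAffine G.left] [IsAffine H.left] (i : H ⟶ G) (a : ↥(AGF.rTransInv i))
    (ha : (a : Γ(G.left, ⊤)) ∈ nonZeroDivisors Γ(G.left, ⊤)) (h : Γ(G.left, ⊤))
    (hah : (a : Γ(G.left, ⊤)) * h ∈ AGF.rTransInv i) : h ∈ AGF.rTransInv i := by
  have hflatH : Flat H.hom := flat_of_isField (Field.toIsField k) H.hom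
  have : Flat (fst G H).left := fst_left_of (P := @Flat) G hflatH
  have : IsAffine (G ⊗ H).left := inferInstanceAs (IsAffine (pullback G.hom H.hom))
  let pr := (fst G H).left.appTop.hom
  let σ := ((G ◁ i) ≫ μ[G]).left.appTop.hom
  letI := pr.toAlgebra
  haveI : Module.Flat Γ(G.left, ⊤) Γ((G ⊗ H).left, ⊤) := (fst G H).left.flat_appTop
  have hreg : IsSMulRegular Γ((G ⊗ H).left, ⊤) (a : Γ(G.left, ⊤)) :=
    Module.Flat.isSMulRegular_of_isRegular (isRegular_iff_mem_nonZeroDivisors.mpr ha)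
  have h1 : σ a = pr a := a.2
  have h2 : σ (a * h) = pr (a * h) := hah
  rw [map_mul, map_mul, h1] at h2
  show σ h = pr h
  apply hreg
  show (a : Γ(G.left, ⊤)) • σ h = (a : Γ(G.left, ⊤)) • pr h
  rw [Algebra.smul_def, Algebra.smul_def]
  exact h2

theorem isoSpec_inv_appTop (X : Scheme.{u}) [IsAffine X] :
    X.isoSpec.inv.appTop = (Scheme.ΓSpecIso Γ(X, ⊤)).inv := by
  have h : X.isoSpec.inv.appTop ≫ X.toSpecΓ.appTop = 𝟙 _ := by
    rw [← Scheme.Hom.comp_appTop, Scheme.toSpecΓ_isoSpec_inv]; rfl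
  rw [← cancel_mono (Scheme.ΓSpecIso Γ(X, ⊤)).hom, Iso.inv_hom_id, ← Scheme.toSpecΓ_appTop]
  exact h

/-- Value at a rational point. -/
noncomputable def ev (x : 𝟙_ (Over (Spec (CommRingCat.of k))) ⟶ G) : Γ(G.left, ⊤) →+* k :=
  (x.left.appTop ≫ (Scheme.ΓSpecIso (CommRingCat.of k)).hom).hom

theorem exists_ev_ker [IsAlgClosed k] [IsAffine G.left] [LocallyOfFiniteType G.hom]
    (m : Ideal Γ(G.left, ⊤)) [m.IsMaximal] :
    ∃ x : 𝟙_ (Over (Spec (CommRingCat.of k))) ⟶ G, RingHom.ker (ev x) = m := by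
  letI := (const G).toAlgebra
  haveI : Algebra.FiniteType k Γ(G.left, ⊤) := finiteType_Γ (G := G)
  letI := Ideal.Quotient.field m
  have : Module.Finite k (Γ(G.left, ⊤) ⧸ m) := finite_of_finite_type_of_isJacobsonRing k _
  have : Algebra.IsIntegral k (Γ(G.left, ⊤) ⧸ m) := Algebra.IsIntegral.of_finite k _
  let e := AlgEquiv.ofBijective (Algebra.ofId k (Γ(G.left, ⊤) ⧸ m))
    (IsAlgClosed.algebraMap_bijective_of_isIntegral (k := k) (K := Γ(G.left, ⊤) ⧸ m))
  let θ : Γ(G.left, ⊤) →ₐ[k] k := e.symm.toAlgHom.comp (Ideal.Quotient.mkₐ k m)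
  let x₀ : Spec (CommRingCat.of k) ⟶ G.left :=
    Spec.map (CommRingCat.ofHom θ.toRingHom) ≫ G.left.isoSpec.inv
  have hx : ∀ f, (Scheme.ΓSpecIso (CommRingCat.of k)).hom (x₀.appTop f) = θ f := by
    intro f
    show (Scheme.ΓSpecIso (CommRingCat.of k)).hom
      ((Spec.map (CommRingCat.ofHom θ.toRingHom) ≫ G.left.isoSpec.inv).appTop f) = θ f
    rw [Scheme.Hom.comp_appTop, isoSpec_inv_appTop, CommRingCat.comp_apply, ← CommRingCat.comp_apply _
      (Scheme.ΓSpecIso (CommRingCat.of k)).hom, Scheme.ΓSpecIso_naturality, CommRingCat.comp_apply]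
    exact congrArg θ (Iso.inv_hom_id_apply (Scheme.ΓSpecIso Γ(G.left, ⊤)) f)
  refine ⟨Over.homMk x₀ ?_, ?_⟩
  · apply ext_of_isAffine
    ext t
    apply (Scheme.ΓSpecIso (CommRingCat.of k)).commRingCatIsoToRingEquiv.injective
    obtain ⟨c, rfl⟩ := (Scheme.ΓSpecIso (CommRingCat.of k)).commRingCatIsoToRingEquiv.symm.surjective t
    exact (hx _).trans ((θ.commutes c).trans (Iso.inv_hom_id_apply _ c).symm)
  · ext f
    show (Scheme.ΓSpecIso (CommRingCat.of k)).hom (x₀.appTop f) = 0 ↔ f ∈ m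
    rw [hx]
    simp [θ, Ideal.Quotient.eq_zero_iff_mem]

theorem transitive [IsAlgClosed k] [IsAffine G.left] [LocallyOfFiniteType G.hom]
    (m m' : Ideal Γ(G.left, ⊤)) (hm : m.IsMaximal) (hm' : m'.IsMaximal) :
    ∃ x : 𝟙_ (Over (Spec (CommRingCat.of k))) ⟶ G, m.comap (tA x : Γ(G.left, ⊤) →+* Γ(G.left, ⊤)) = m' := by
  obtain ⟨p, rfl⟩ := exists_ev_ker m
  obtain ⟨p', rfl⟩ := exists_ev_ker m'
  refine ⟨p' * p⁻¹, ?_⟩
  have h : p ≫ (translate (regularAction G) (p' * p⁻¹)).hom = p' := by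
    rw [translate_regular_apply, inv_mul_cancel_right]
  ext f
  show ev p (tA (p' * p⁻¹) f) = 0 ↔ ev p' f = 0
  have : ev p' f = ev p (tA (p' * p⁻¹) f) := by
    conv_lhs => rw [← h]
    simp only [ev, tA_apply, Over.comp_left, Scheme.Hom.comp_appTop, CommRingCat.hom_comp, RingHom.comp_apply]
  rw [this]

/-- The range of `G → Spec k[G]^H` is open and its complement has height at least two. -/
theorem open_range_height [IsAlgClosed k] [GrpObj H] [IsAffine G.left] [Smooth G.hom] [IsAffine H.left]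
    (i : H ⟶ G) (hfg : AGF.SubringFGOver k G (AGF.rTransInv i)) :
    IsOpen (Set.range ⇑(G.left.toSpecΓ ≫ Spec.map (CommRingCat.ofHom (AGF.rTransInv i).subtype)).base) ∧
      ∀ x : ↥(Spec (CommRingCat.of ↥(AGF.rTransInv i))),
        x ∉ Set.range ⇑(G.left.toSpecΓ ≫ Spec.map (CommRingCat.ofHom (AGF.rTransInv i).subtype)).base →
          (2 : ℕ∞) ≤ x.asIdeal.height := by
  have hrange : Set.range ⇑(G.left.toSpecΓ ≫ Spec.map (CommRingCat.ofHom (AGF.rTransInv i).subtype)).base =
      Set.range (PrimeSpectrum.comap (AGF.rTransInv i).subtype) := by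
    exact (Function.Surjective.range_comp G.left.toSpecΓ.surjective
      (PrimeSpectrum.comap (AGF.rTransInv i).subtype))
  rw [hrange]
  have := isNoetherianRing_Γ (G := G)
  have := isJacobsonRing_Γ (G := G)
  have := isReduced_of_smooth_field G.hom
  obtain ⟨s, θ, hθ, hθc⟩ := exists_surjective i hfg
  have : IsNoetherianRing ↥(AGF.rTransInv i) := isNoetherianRing_of_surjective _ _ θ hθ
  have : Nonempty G.left := ⟨η[G].left (IsLocalRing.closedPoint k : ↥(Spec (CommRingCat.of k)))⟩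
  have : Nontrivial Γ(G.left, ⊤) := (ev η[G]).domain_nontrivial
  have : Nontrivial ↥(AGF.rTransInv i) := inferInstance
  have hft : (AGF.rTransInv i).subtype.FiniteType := by
    refine RingHom.FiniteType.of_comp_finiteType (f := θ.comp MvPolynomial.C) ?_
    have : (AGF.rTransInv i).subtype.comp (θ.comp MvPolynomial.C) = const G := RingHom.ext hθc
    rw [this]
    exact finiteType_Γ
  have hfp : (AGF.rTransInv i).subtype.FinitePresentation := RingHom.FinitePresentation.of_finiteType.mp hft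
  have hopen := OpenRange.isOpen_range (AGF.rTransInv i).subtype (fun x => tA x) (fun x => tR x i)
    Subtype.val_injective hfp (fun _ _ => rfl) transitive
  refine ⟨hopen, fun x hx => OpenRange.two_le_height (AGF.rTransInv i).subtype (fun x => tA x) (fun x => tR x i)
    Subtype.val_injective hopen (fun _ _ => rfl) transitive ?_ x hx⟩
  intro a ha h hh
  rw [Subring.range_subtype] at hh ⊢
  exact saturated i a ha h hh

end Groth.Agent.H1.RInv
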